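import Groth.Agent.KoszulCech.ExtCech
import Groth.Prelude.Def_ega3
import Mathlib.RingTheory.Regular.RegularSequence
import Mathlib.Algebra.Homology.Homotopy

/-!
# The mapping-cone Koszul complex, elementwise
-/

set_option autoImplicit false

noncomputable section

universe u

open CategoryTheory Limits CochainComplex CohIII

namespace Groth.Agent.KoszulCx

open KoszulCech.ExtCech (pf ps mk pf_mk ps_mk pf_d ps_d Ex exactAt_of_ex)

variable {A : Type u} [CommRing A]

/-- The multiplication whose cone is taken. -/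
abbrev φ (f : A) (K : CochainComplex (ModuleCat.{u} A) ℤ) : K ⟶ K := f • 𝟙 K

lemma φ_apply (f : A) (K : CochainComplex (ModuleCat.{u} A) ℤ) (i : ℤ) (x : K.X i) :
    (φ f K).f i x = f • x := rfl

lemma cone_ext {K L : CochainComplex (ModuleCat.{u} A) ℤ} (ψ : K ⟶ L) {i j : ℤ} (h : i + 1 = j)
    {x y : (mappingCone ψ).X i} (h1 : pf ψ i j h x = pf ψ i j h y) (h2 : ps ψ i x = ps ψ i y) : x = y :=
  KoszulCech.ExtCech.ext ψ h h1 h2

/-! ### Homotopies -/

variable (f : A) (K : CochainComplex (ModuleCat.{u} A) ℤ)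

/-- `f` is null homotopic on its cone. -/
def selfHom (i j : ℤ) : (mappingCone (φ f K)).X i ⟶ (mappingCone (φ f K)).X j :=
  if h : j + 1 = i then (mappingCone.snd (φ f K)).v i i (add_zero i) ≫ (mappingCone.inl (φ f K)).v i j (by omega)
  else 0

lemma selfHom_apply {i j : ℤ} (h : j + 1 = i) (x : (mappingCone (φ f K)).X i) :
    selfHom f K i j x = mk (φ f K) h (ps (φ f K) i x) 0 := by
  rw [selfHom, dif_pos h, KoszulCech.ExtCech.mk, map_zero, add_zero]; rfl

/-- `f` is null homotopic on its cone. -/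
def selfHomotopy : Homotopy (f • 𝟙 (mappingCone (φ f K))) 0 where
  hom := selfHom f K
  zero i j h := dif_neg h
  comm i := by
    rw [dNext_eq (selfHom f K) (show (ComplexShape.up ℤ).Rel i (i + 1) from rfl),
      prevD_eq (selfHom f K) (show (ComplexShape.up ℤ).Rel (i - 1) i from sub_add_cancel i 1)]
    refine ModuleCat.hom_ext (LinearMap.ext fun x => ?_)
    show f • x = selfHom f K (i + 1) i ((mappingCone (φ f K)).d i (i + 1) x) +
      (mappingCone (φ f K)).d (i - 1) i (selfHom f K i (i - 1) x) + 0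
    rw [add_zero, selfHom_apply f K rfl, selfHom_apply f K (sub_add_cancel i 1)]
    refine cone_ext _ (rfl : i + 1 = i + 1) ?_ ?_
    · rw [map_add, map_smul, pf_mk, pf_d _ _ _ _ (sub_add_cancel i 1) rfl, pf_mk, ps_d _ _ _ rfl, φ_apply]
      abel
    · rw [map_add, map_smul, ps_mk, ps_d _ _ _ (sub_add_cancel i 1), pf_mk, ps_mk, φ_apply]
      simp

variable {f K}

/-- A homotopy goes to cones. -/
def coneHom {g : A} (H : Homotopy (g • 𝟙 K) 0) (i j : ℤ) :
    (mappingCone (φ f K)).X i ⟶ (mappingCone (φ f K)).X j :=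
  if h : j + 1 = i then
    -((mappingCone.fst (φ f K)).1.v i (i + 1) rfl ≫ H.hom (i + 1) i ≫ (mappingCone.inl (φ f K)).v i j (by omega)) +
      (mappingCone.snd (φ f K)).v i i (add_zero i) ≫ H.hom i j ≫ (mappingCone.inr (φ f K)).f j
  else 0

lemma coneHom_apply {g : A} (H : Homotopy (g • 𝟙 K) 0) {i j : ℤ} (h : j + 1 = i)
    (x : (mappingCone (φ f K)).X i) :
    coneHom H i j x =
      mk (φ f K) h (-(H.hom (i + 1) i (pf (φ f K) i (i + 1) rfl x))) (H.hom i j (ps (φ f K) i x)) := by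
  rw [coneHom, dif_pos h, KoszulCech.ExtCech.mk, map_neg]; rfl

lemma homotopy_apply {g : A} (H : Homotopy (g • 𝟙 K) 0) (p q r : ℤ) (hp : p + 1 = q) (hr : q + 1 = r)
    (x : K.X q) : g • x = H.hom r q (K.d q r x) + K.d p q (H.hom q p x) := by
  have h := H.comm q
  rw [dNext_eq H.hom (show (ComplexShape.up ℤ).Rel q r from hr),
    prevD_eq H.hom (show (ComplexShape.up ℤ).Rel p q from hp)] at h
  have h' := congrArg (fun t => t.hom x) h
  simp at h'
  exact h'

/-- A homotopy goes to cones. -/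
def coneHomotopy {g : A} (H : Homotopy (g • 𝟙 K) 0) : Homotopy (g • 𝟙 (mappingCone (φ f K))) 0 where
  hom := coneHom H
  zero i j h := dif_neg h
  comm i := by
    rw [dNext_eq (coneHom H) (show (ComplexShape.up ℤ).Rel i (i + 1) from rfl),
      prevD_eq (coneHom H) (show (ComplexShape.up ℤ).Rel (i - 1) i from sub_add_cancel i 1)]
    refine ModuleCat.hom_ext (LinearMap.ext fun x => ?_)
    show g • x = coneHom H (i + 1) i ((mappingCone (φ f K)).d i (i + 1) x) +
      (mappingCone (φ f K)).d (i - 1) i (coneHom H i (i - 1) x) + 0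
    rw [add_zero, coneHom_apply H rfl, coneHom_apply H (sub_add_cancel i 1)]
    refine cone_ext _ (rfl : i + 1 = i + 1) ?_ ?_
    · rw [map_add, map_smul, pf_mk, pf_d _ _ _ _ (sub_add_cancel i 1) rfl, pf_mk,
        pf_d _ i (i + 1) (i + 1 + 1) rfl rfl]
      simp only [map_neg, neg_neg]
      exact homotopy_apply H i (i + 1) (i + 1 + 1) rfl rfl _
    · rw [map_add, map_smul, ps_mk, ps_d _ _ _ (sub_add_cancel i 1), pf_mk, ps_mk, ps_d _ _ _ rfl, φ_apply,
        φ_apply, map_add, map_smul, homotopy_apply H (i - 1) i (i + 1) (sub_add_cancel i 1) rfl]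
      simp only [smul_neg]
      abel

variable (M : ModuleCat.{u} A)

theorem nonempty_homotopy : ∀ (fs : List A) (a : A), a ∈ Ideal.span {x | x ∈ fs} →
    Nonempty (Homotopy (a • 𝟙 (koszulCx M fs)) 0)
  | [], a, ha => by
    have : a = 0 := by simpa using ha
    subst this
    exact ⟨Homotopy.ofEq (zero_smul A (𝟙 _))⟩
  | f :: fs, a, ha => by
    let K := koszulCx M fs
    show Nonempty (Homotopy (a • 𝟙 (mappingCone (φ f K))) 0)
    have h : {x | x ∈ f :: fs} = insert f {x | x ∈ fs} := by ext x; simp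
    rw [h, Ideal.span_insert, Submodule.mem_sup] at ha
    obtain ⟨y, hy, z, hz, rfl⟩ := ha
    obtain ⟨w, rfl⟩ := Ideal.mem_span_singleton'.1 hy
    obtain ⟨H⟩ := nonempty_homotopy fs z hz
    refine ⟨((Homotopy.ofEq ?_).trans (((selfHomotopy f K).compLeft (w • 𝟙 _)).add (coneHomotopy H))).trans
      (Homotopy.ofEq ?_)⟩
    · rw [Linear.smul_comp, Category.id_comp, add_smul, mul_smul]
    · simp

lemma isZero_homology_of_homotopy {L : CochainComplex (ModuleCat.{u} A) ℤ}
    (h : Nonempty (Homotopy ((1 : A) • 𝟙 L) 0)) (i : ℤ) : IsZero (L.homology i) := by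
  obtain ⟨H⟩ := h
  have := H.homologyMap_eq i
  rw [one_smul, HomologicalComplex.homologyMap_id, HomologicalComplex.homologyMap_zero] at this
  exact (IsZero.iff_id_eq_zero _).2 this

/-! ### Degrees -/

lemma subsingleton_X_pos : ∀ (fs : List A) (q : ℤ), 0 < q → Subsingleton ((koszulCx M fs).X q)
  | [], q, hq => ModuleCat.subsingleton_of_isZero (HomologicalComplex.isZero_single_obj_X _ _ _ _ hq.ne')
  | f :: fs, q, hq => by
    haveI h1 := subsingleton_X_pos fs (q + 1) (by omega)
    haveI h0 := subsingleton_X_pos fs q hq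
    exact ⟨fun (x y : (mappingCone (φ f (koszulCx M fs))).X q) =>
      cone_ext _ rfl (Subsingleton.elim _ _) (Subsingleton.elim _ _)⟩

/-- The augmentation of the top degree. -/
def top : ∀ fs : List A, (koszulCx M fs).X 0 →ₗ[A] M
  | [] => (HomologicalComplex.singleObjXSelf (ComplexShape.up ℤ) 0 M).hom.hom
  | f :: fs => (top fs).comp (ps (φ f (koszulCx M fs)) 0)

lemma top_bijective : ∀ fs : List A, Function.Bijective (top M fs)
  | [] => (HomologicalComplex.singleObjXSelf (ComplexShape.up ℤ) 0 M).toLinearEquiv.bijective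
  | f :: fs => by
    haveI := subsingleton_X_pos M fs 1 one_pos
    refine (top_bijective fs).comp ⟨fun x y h => cone_ext _ (zero_add 1) (Subsingleton.elim _ _) h,
      fun b => ⟨mk _ (zero_add 1) 0 b, ps_mk _ _ 0 b⟩⟩

lemma map_range_d : ∀ fs : List A,
    (LinearMap.range ((koszulCx M fs).d (-1) 0).hom).map (top M fs) = Ideal.span {x | x ∈ fs} • (⊤ : Submodule A M)
  | [] => by
    have h0 : (koszulCx M []).d (-1) 0 = 0 := HomologicalComplex.single_obj_d _ _ _ _ _
    simp [h0]
  | f :: fs => by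
    have h : {x | x ∈ f :: fs} = insert f {x | x ∈ fs} := by ext x; simp
    rw [h, Ideal.span_insert, Submodule.sup_smul, ← map_range_d fs, Submodule.ideal_span_singleton_smul]
    let K := koszulCx M fs
    refine le_antisymm ?_ (sup_le ?_ ?_)
    · rintro _ ⟨_, ⟨(x : (mappingCone (φ f K)).X (-1)), rfl⟩, rfl⟩
      show top M fs (ps (φ f K) 0 ((mappingCone (φ f K)).d (-1) 0 x)) ∈ _
      rw [ps_d _ (-1) 0 (neg_add_cancel 1), map_add, φ_apply, map_smul]
      exact Submodule.add_mem_sup ⟨_, Submodule.mem_top, rfl⟩ ⟨_, ⟨_, rfl⟩, rfl⟩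
    · rintro _ ⟨m, -, rfl⟩
      obtain ⟨e, he⟩ := (top_bijective M fs).2 m
      refine ⟨_, ⟨mk (φ f K) (neg_add_cancel 1) e 0, rfl⟩, ?_⟩
      show top M fs (ps (φ f K) 0 ((mappingCone (φ f K)).d (-1) 0 _)) = f • m
      rw [ps_d _ (-1) 0 (neg_add_cancel 1), pf_mk, ps_mk, map_zero, add_zero, φ_apply, map_smul, he]
    · rintro _ ⟨_, ⟨w, rfl⟩, rfl⟩
      refine ⟨_, ⟨mk (φ f K) (neg_add_cancel 1) 0 w, rfl⟩, ?_⟩
      show top M fs (ps (φ f K) 0 ((mappingCone (φ f K)).d (-1) 0 _)) = _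
      rw [ps_d _ (-1) 0 (neg_add_cancel 1), pf_mk, ps_mk, map_zero, zero_add]

theorem nonempty_homology_zero (fs : List A) :
    Nonempty (↑((koszulCx M fs).homology 0) ≃ₗ[A] M ⧸ Ideal.span {x | x ∈ fs} • (⊤ : Submodule A M)) := by
  let K := koszulCx M fs
  have hd : K.d 0 1 = 0 :=
    IsZero.eq_zero_of_tgt (@ModuleCat.isZero_of_subsingleton A _ _ (subsingleton_X_pos M fs 1 one_pos)) _
  let e : K.homology 0 ≅ (K.sc' (-1) 0 1).moduleCatLeftHomologyData.H :=
    ShortComplex.homologyMapIso (K.isoSc' (-1) 0 1 (by simp) (by simp)) ≪≫ ShortComplex.moduleCatHomologyIso _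
  let ker : LinearMap.ker (K.d 0 1).hom →ₗ[A] M := (top M fs).comp (Submodule.subtype _)
  let g : LinearMap.ker (K.d 0 1).hom →ₗ[A] M ⧸ Ideal.span {x | x ∈ fs} • (⊤ : Submodule A M) :=
    (Submodule.mkQ _).comp ker
  have hs : Function.Surjective g := fun y => by
    obtain ⟨m, rfl⟩ := Submodule.Quotient.mk_surjective _ y
    obtain ⟨x, hx⟩ := (top_bijective M fs).2 m
    exact ⟨⟨x, by simp [hd]⟩, congrArg Submodule.Quotient.mk hx⟩
  refine ⟨e.toLinearEquiv.trans ((Submodule.quotEquivOfEq _ (LinearMap.ker g) ?_).trans (g.quotKerEquivOfSurjective hs))⟩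
  ext x
  show x ∈ LinearMap.range _ ↔ Submodule.Quotient.mk (top M fs x.1) = 0
  rw [Submodule.Quotient.mk_eq_zero, ← map_range_d]
  constructor
  · rintro ⟨w, rfl⟩; exact ⟨_, ⟨w, rfl⟩, rfl⟩
  · rintro ⟨_, ⟨w, rfl⟩, hw⟩
    exact ⟨w, Subtype.ext ((top_bijective M fs).1 hw)⟩

/-! ### Functoriality in the module -/

variable {M} {N : ModuleCat.{u} A}

/-- The map induced by a map of modules. -/
def kMap (g : M ⟶ N) : ∀ fs : List A, koszulCx M fs ⟶ koszulCx N fs
  | [] => (HomologicalComplex.single (ModuleCat.{u} A) (ComplexShape.up ℤ) 0).map g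
  | f :: fs => mappingCone.map (φ f (koszulCx M fs)) (φ f (koszulCx N fs)) (kMap g fs) (kMap g fs)
      (by simp [φ])

lemma pf_kMap (g : M ⟶ N) (f : A) (fs : List A) (i j : ℤ) (h : i + 1 = j)
    (x : (mappingCone (φ f (koszulCx M fs))).X i) :
    pf (φ f (koszulCx N fs)) i j h ((kMap g (f :: fs)).f i x) =
      (kMap g fs).f j (pf (φ f (koszulCx M fs)) i j h x) := by
  refine congrArg (fun t => t.hom x) (?_ : (mappingCone.map _ _ (kMap g fs) (kMap g fs) _).f i ≫
    (mappingCone.fst (φ f (koszulCx N fs))).1.v i j h = (mappingCone.fst _).1.v i j h ≫ (kMap g fs).f j)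
  simp [mappingCone.ext_from_iff _ j i h, mappingCone.map]

lemma ps_kMap (g : M ⟶ N) (f : A) (fs : List A) (i : ℤ)
    (x : (mappingCone (φ f (koszulCx M fs))).X i) :
    ps (φ f (koszulCx N fs)) i ((kMap g (f :: fs)).f i x) =
      (kMap g fs).f i (ps (φ f (koszulCx M fs)) i x) := by
  refine congrArg (fun t => t.hom x) (?_ : (mappingCone.map _ _ (kMap g fs) (kMap g fs) _).f i ≫
    (mappingCone.snd (φ f (koszulCx N fs))).v i i (add_zero i) =
      (mappingCone.snd _).v i i (add_zero i) ≫ (kMap g fs).f i)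
  simp [mappingCone.ext_from_iff _ (i + 1) i rfl, mappingCone.map]

/-- Degreewise exactness. -/
theorem kMap_exact {P : ModuleCat.{u} A} (a : M ⟶ N) (b : N ⟶ P) (ha : Function.Injective a.hom)
    (hb : Function.Surjective b.hom) (hab : Function.Exact a.hom b.hom) : ∀ (fs : List A) (q : ℤ),
    Function.Injective ((kMap a fs).f q).hom ∧ Function.Surjective ((kMap b fs).f q).hom ∧
      Function.Exact ((kMap a fs).f q).hom ((kMap b fs).f q).hom
  | [], q => by
    rcases eq_or_ne q 0 with rfl | hq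
    · let e := fun L : ModuleCat.{u} A =>
        (HomologicalComplex.singleObjXSelf (ComplexShape.up ℤ) 0 L).toLinearEquiv
      have he : ∀ {X Y : ModuleCat.{u} A} (g : X ⟶ Y) (x : (koszulCx X []).X 0),
          e Y ((kMap g []).f 0 x) = g (e X x) := fun {X Y} g x =>
        KoszulCech.ExtCech.aug_extMap X g [] x
      refine ⟨fun x y h => (e M).injective (ha ((he a x).symm.trans ((congrArg (e N) h).trans (he a y)))),
        fun z => ?_, fun y => ?_⟩
      · obtain ⟨w, hw⟩ := hb (e P z)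
        exact ⟨(e N).symm w, (e P).injective ((he b _).trans ((congrArg b.hom ((e N).apply_symm_apply w)).trans hw))⟩
      · constructor
        · intro hy
          obtain ⟨w, hw⟩ := (hab (e N y)).1 ((he b y).symm.trans ((congrArg (e P) hy).trans (map_zero _)))
          exact ⟨(e M).symm w, (e N).injective ((he a _).trans ((congrArg a.hom ((e M).apply_symm_apply w)).trans hw))⟩
        · rintro ⟨w, rfl⟩
          exact (e P).injective ((he b _).trans ((congrArg b.hom (he a w)).trans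
            ((hab.apply_apply_eq_zero _).trans (map_zero _).symm)))
    · have hz : ∀ (L : ModuleCat.{u} A) (x y : (koszulCx L []).X q), x = y := fun L =>
        (ModuleCat.subsingleton_of_isZero
          (HomologicalComplex.isZero_single_obj_X (ComplexShape.up ℤ) 0 L q hq)).elim
      exact ⟨fun x y _ => hz _ _ _, fun z => ⟨0, hz _ _ _⟩, fun y => ⟨fun _ => ⟨0, hz _ _ _⟩, fun _ => hz _ _ _⟩⟩
  | f :: fs, q => by
    obtain ⟨i1, s1, x1⟩ := kMap_exact a b ha hb hab fs (q + 1)
    obtain ⟨i0, s0, x0⟩ := kMap_exact a b ha hb hab fs q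
    let ψ := fun L : ModuleCat.{u} A => φ f (koszulCx L fs)
    refine ⟨fun (x y : (mappingCone (ψ M)).X q) h => cone_ext _ rfl (i1 ?_) (i0 ?_),
      fun (z : (mappingCone (ψ P)).X q) => ?_, fun (y : (mappingCone (ψ N)).X q) => ?_⟩
    · rw [← pf_kMap, ← pf_kMap, h]
    · rw [← ps_kMap, ← ps_kMap, h]
    · obtain ⟨u, hu⟩ := s1 (pf (ψ P) q _ rfl z)
      obtain ⟨v, hv⟩ := s0 (ps (ψ P) q z)
      exact ⟨mk (ψ N) rfl u v, cone_ext (ψ P) rfl (by rw [pf_kMap, pf_mk]; exact hu) (by rw [ps_kMap, ps_mk]; exact hv)⟩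
    · constructor
      · intro hy
        obtain ⟨u, hu⟩ := (x1 (pf (ψ N) q _ rfl y)).1 ((pf_kMap b f fs _ _ rfl y).symm.trans ((congrArg _ hy).trans (map_zero _)))
        obtain ⟨v, hv⟩ := (x0 (ps (ψ N) q y)).1 ((ps_kMap b f fs _ y).symm.trans ((congrArg _ hy).trans (map_zero _)))
        exact ⟨mk (ψ M) rfl u v, cone_ext (ψ N) rfl (by rw [pf_kMap, pf_mk]; exact hu) (by rw [ps_kMap, ps_mk]; exact hv)⟩
      · rintro ⟨x, rfl⟩
        refine cone_ext (ψ P) rfl ?_ ?_
        · exact ((pf_kMap b f fs _ _ rfl _).trans ((congrArg _ (pf_kMap a f fs _ _ rfl x)).trans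
            (x1.apply_apply_eq_zero _))).trans (map_zero _).symm
        · exact ((ps_kMap b f fs _ _).trans ((congrArg _ (ps_kMap a f fs _ x)).trans
            (x0.apply_apply_eq_zero _))).trans (map_zero _).symm

lemma kMap_smul (c : A) : ∀ (fs : List A) (q : ℤ) (x : (koszulCx M fs).X q),
    (kMap (c • 𝟙 M) fs).f q x = c • x
  | [], q, x => by
    rcases eq_or_ne q 0 with rfl | hq
    · refine (HomologicalComplex.singleObjXSelf (ComplexShape.up ℤ) 0 M).toLinearEquiv.injective ?_
      exact (KoszulCech.ExtCech.aug_extMap M (c • 𝟙 M) [] x).trans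
        ((HomologicalComplex.singleObjXSelf (ComplexShape.up ℤ) 0 M).toLinearEquiv.map_smul c x).symm
    · exact (ModuleCat.subsingleton_of_isZero
        (HomologicalComplex.isZero_single_obj_X (ComplexShape.up ℤ) 0 M q hq)).elim _ _
  | f :: fs, q, x => by
    refine cone_ext (φ f (koszulCx M fs)) (rfl : q + 1 = q + 1) ?_ ?_
    · exact ((pf_kMap _ f fs _ _ rfl x).trans (kMap_smul c fs _ _)).trans
        ((pf (φ f (koszulCx M fs)) q (q + 1) rfl).map_smul c x).symm
    · exact ((ps_kMap _ f fs _ x).trans (kMap_smul c fs _ _)).trans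
        ((ps (φ f (koszulCx M fs)) q).map_smul c x).symm

/-- A weakly regular sequence has Koszul complex exact in negative degrees. -/
theorem ex_of_isWeaklyRegular : ∀ (fs : List A) (M : ModuleCat.{u} A),
    RingTheory.Sequence.IsWeaklyRegular M fs → ∀ q : ℤ, q < 0 → Ex (koszulCx M fs) q
  | [], M, _, q, hq, p, r, _, _, x, _ => ⟨0, (ModuleCat.subsingleton_of_isZero
      (HomologicalComplex.isZero_single_obj_X (ComplexShape.up ℤ) 0 M q hq.ne)).elim _ _⟩
  | f :: fs, M, hreg, q, hq, p, r, hp, hr, (x : (mappingCone (φ f (koszulCx M fs))).X q),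
      (hx : (mappingCone (φ f (koszulCx M fs))).d q r x = 0) => by
    rw [RingTheory.Sequence.isWeaklyRegular_cons_iff] at hreg
    let Q := ModuleCat.of A (QuotSMulTop f M)
    let a : M ⟶ M := f • 𝟙 M
    let b : M ⟶ Q := ModuleCat.ofHom (Submodule.mkQ _)
    have hab : Function.Exact a.hom b.hom := fun y => by
      show Submodule.Quotient.mk y = 0 ↔ _
      rw [Submodule.Quotient.mk_eq_zero, Submodule.mem_smul_pointwise_iff_exists]
      exact ⟨fun ⟨z, _, hz⟩ => ⟨z, hz⟩, fun ⟨z, hz⟩ => ⟨z, Submodule.mem_top, hz⟩⟩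
    have hex := fun i => kMap_exact a b (fun y z h => hreg.1 h) (Submodule.mkQ_surjective _) hab fs i
    let K := koszulCx M fs
    have hinj : ∀ (i : ℤ) (y : K.X i), f • y = 0 → y = 0 := fun i y h =>
      (hex i).1 ((kMap_smul f fs i y).trans (h.trans (map_zero _).symm))
    have hb' := congrArg (ps (φ f K) r) hx
    rw [ps_d (φ f K) q r hr, map_zero, φ_apply] at hb'
    have hcomm : (koszulCx Q fs).d q r ((kMap b fs).f q (ps (φ f K) q x)) = 0 := by
      rw [← ModuleCat.comp_apply, (kMap b fs).comm, ModuleCat.comp_apply]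
      refine ((hex r).2.2 _).2 ⟨-pf (φ f K) q r hr x, ?_⟩
      rw [kMap_smul f fs, smul_neg, eq_comm, ← add_eq_zero_iff_eq_neg, add_comm]
      exact hb'
    obtain ⟨w', hw'⟩ := ex_of_isWeaklyRegular fs Q hreg.2 q hq p r hp hr _ hcomm
    obtain ⟨w, rfl⟩ := (hex p).2.1 w'
    obtain ⟨e, he⟩ := ((hex q).2.2 (ps (φ f K) q x - K.d p q w)).1 (by
      rw [map_sub, sub_eq_zero, ← hw', ← ModuleCat.comp_apply, (kMap b fs).comm, ModuleCat.comp_apply])
    rw [kMap_smul f fs] at he
    refine ⟨mk (φ f K) hp e w, ?_⟩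
    show (mappingCone (φ f K)).d p q _ = x
    refine cone_ext _ hr ?_ ?_
    · rw [pf_d _ p q r hp hr, pf_mk]
      refine neg_eq_of_add_eq_zero_left (hinj r _ ?_)
      rw [smul_add, ← (K.d q r).hom.map_smul, he, map_sub, ← ModuleCat.comp_apply (K.d p q), K.d_comp_d]
      simpa using hb'
    · rw [ps_d _ p q hp, pf_mk, ps_mk, φ_apply, he]
      abel

end Groth.Agent.KoszulCx
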