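import Groth.Agent.KoszulCx.Basic
import Groth.Agent.Depth.CM

/-!
# Koszul cohomology and depth
-/

set_option autoImplicit false

noncomputable section

universe u

open CategoryTheory Limits CochainComplex CohIII
open scoped Pointwise

namespace Groth.Agent.KoszulCx

open KoszulCech.ExtCech (pf ps mk pf_mk ps_mk pf_d ps_d Ex exactAt_of_ex)

variable {A : Type u} [CommRing A] (M : ModuleCat.{u} A)

lemma subsingleton_X_lt : ∀ (fs : List A) (q : ℤ), q + fs.length < 0 → Subsingleton ((koszulCx M fs).X q)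
  | [], q, hq => ModuleCat.subsingleton_of_isZero
      (HomologicalComplex.isZero_single_obj_X _ _ _ _ (show q ≠ 0 by simp at hq; omega))
  | f :: fs, q, hq => by
    simp only [List.length_cons, Nat.cast_add, Nat.cast_one] at hq
    haveI h1 := subsingleton_X_lt fs (q + 1) (by omega)
    haveI h0 := subsingleton_X_lt fs q (by omega)
    exact ⟨fun (x y : (mappingCone (φ f (koszulCx M fs))).X q) =>
      cone_ext _ rfl (Subsingleton.elim _ _) (Subsingleton.elim _ _)⟩

/-- The bottom cycles are the elements killed by the ideal. -/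
theorem exists_bot_cycle : ∀ (fs : List A) (M : ModuleCat.{u} A) (q r : ℤ), q + fs.length = 0 → q + 1 = r → ∀ m : M,
    (∀ a ∈ fs, a • m = 0) → m ≠ 0 → ∃ z : (koszulCx M fs).X q, (koszulCx M fs).d q r z = 0 ∧ z ≠ 0 ∧
      ∀ a ∈ fs, a • z = 0
  | [], M, q, r, hq, hr, m, _, hm => by
    obtain rfl : q = 0 := by simpa using hq
    let e := (HomologicalComplex.singleObjXSelf (ComplexShape.up ℤ) 0 M).toLinearEquiv
    refine ⟨e.symm m, (ModuleCat.subsingleton_of_isZero (HomologicalComplex.isZero_single_obj_X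
      (ComplexShape.up ℤ) 0 M r (show r ≠ 0 by omega))).elim _ _, fun h => hm (e.symm.injective (h.trans (map_zero _).symm)),
      fun a ha => absurd ha List.not_mem_nil⟩
  | f :: fs, M, q, r, hq, hr, m, hm, hm0 => by
    simp only [List.length_cons, Nat.cast_add, Nat.cast_one] at hq
    -- the bottom of the tail, one degree higher, killed also by `f`
    suffices h : ∃ z : (koszulCx M fs).X r, (koszulCx M fs).d r (r + 1) z = 0 ∧ z ≠ 0 ∧
        (∀ a ∈ fs, a • z = 0) ∧ f • z = 0 by
      obtain ⟨z, hz, hz0, hza, hzf⟩ := h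
      let K := koszulCx M fs
      refine ⟨(mk (φ f K) hr z 0 : (mappingCone (φ f K)).X q), ?_, fun h => hz0 ?_, fun a ha => ?_⟩
      · show (mappingCone (φ f K)).d q r _ = 0
        refine cone_ext _ (rfl : r + 1 = r + 1) ?_ ?_
        · rw [pf_d _ q r (r + 1) hr rfl, pf_mk, hz, neg_zero, map_zero]
        · rw [ps_d _ q r hr, pf_mk, ps_mk, φ_apply, hzf, map_zero, zero_add, map_zero]
      · exact ((congrArg (pf (φ f K) q r hr) h).symm.trans (pf_mk _ _ z 0)).symm.trans (map_zero _)
      · show a • (mk (φ f K) hr z 0 : (mappingCone (φ f K)).X q) = 0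
        refine cone_ext _ hr ?_ ?_
        · rw [map_smul, pf_mk, map_zero]
          rcases List.mem_cons.1 ha with rfl | ha
          exacts [hzf, hza a ha]
        · rw [map_smul, ps_mk, smul_zero, map_zero]
    let T := ModuleCat.of A (Submodule.torsionBy A M f)
    obtain ⟨z, hz, hz0, hza⟩ := exists_bot_cycle fs T r (r + 1) (by omega) rfl
      ⟨m, hm f List.mem_cons_self⟩ (fun a ha => Subtype.ext (hm a (List.mem_cons_of_mem f ha)))
      (fun h => hm0 (congrArg Subtype.val h))
    let ι : T ⟶ M := ModuleCat.ofHom (Submodule.subtype _)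
    have hinj : Function.Injective ((kMap ι fs).f r).hom :=
      (kMap_exact ι (ModuleCat.ofHom (LinearMap.range ι.hom).mkQ) Subtype.val_injective
        (Submodule.mkQ_surjective _) (LinearMap.exact_map_mkQ_range _) fs r).1
    have hf : f • 𝟙 T = (0 : A) • 𝟙 T := by
      rw [zero_smul]
      exact ModuleCat.hom_ext (LinearMap.ext fun x => Subtype.ext x.2)
    refine ⟨(kMap ι fs).f r z, ?_, fun h => hz0 (hinj (h.trans (map_zero _).symm)), fun a ha => ?_, ?_⟩
    · rw [← ModuleCat.comp_apply, (kMap ι fs).comm, ModuleCat.comp_apply, hz, map_zero]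
    · rw [← map_smul, hza a ha, map_zero]
    · rw [← map_smul, ← kMap_smul f fs r z, hf, kMap_smul, zero_smul, map_zero]

variable [IsNoetherianRing A]

theorem ex_and_not_ex (fs : List A) : ∀ (r : ℕ) (M : ModuleCat.{u} A), Module.Finite A M →
    Ideal.span {x | x ∈ fs} • (⊤ : Submodule A M) ≠ ⊤ →
    LocCoh.idealDepth (Ideal.span {x | x ∈ fs}) M = r →
    (∀ q : ℤ, q + fs.length < r → Ex (koszulCx M fs) q) ∧
      ¬ Ex (koszulCx M fs) ((r : ℤ) - fs.length) := by
  intro r
  induction r with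
  | zero =>
    intro M _ hM hd
    refine ⟨fun q hq p s _ _ x _ => ⟨0, (subsingleton_X_lt M fs q (by simpa using hq)).elim _ _⟩, fun hex => ?_⟩
    obtain ⟨p, hp, hle⟩ := (Depth.idealDepth_eq_zero_iff hM).1 (by simpa using hd)
    obtain ⟨g, hg⟩ := (isAssociatedPrime_iff_exists_injective_linearMap _ _).1 hp |>.2
    obtain ⟨z, hz, hz0, -⟩ := exists_bot_cycle fs M (((0 : ℕ) : ℤ) - fs.length) _ (by simp) rfl (g (Submodule.Quotient.mk 1))
      (fun a ha => by
        rw [← map_smul, ← Submodule.Quotient.mk_smul, smul_eq_mul, mul_one,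
          (Submodule.Quotient.mk_eq_zero p).2 (hle (Ideal.subset_span ha)), map_zero])
      (fun h => hp.isPrime.ne_top ((Ideal.eq_top_iff_one p).2
        ((Submodule.Quotient.mk_eq_zero p).1 (hg (h.trans (map_zero _).symm)))))
    obtain ⟨w, hw⟩ := hex _ _ (sub_add_cancel _ 1) rfl z hz
    haveI := subsingleton_X_lt M fs (((0 : ℕ) : ℤ) - fs.length - 1) (by push_cast; omega)
    exact hz0 (by rw [← hw, Subsingleton.elim w 0, map_zero])
  | succ r ih =>
    intro M _ hM hd
    obtain ⟨x, hxI, hreg⟩ := (Depth.one_le_idealDepth_iff hM).1 (by rw [hd]; exact_mod_cast Nat.le_add_left 1 r)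
    let Q := ModuleCat.of A (QuotSMulTop x M)
    let a : M ⟶ M := x • 𝟙 M
    let b : M ⟶ Q := ModuleCat.ofHom (Submodule.mkQ _)
    have hab : Function.Exact a.hom b.hom := fun y => by
      show Submodule.Quotient.mk y = 0 ↔ _
      rw [Submodule.Quotient.mk_eq_zero, Submodule.mem_smul_pointwise_iff_exists]
      exact ⟨fun ⟨z, _, hz⟩ => ⟨z, hz⟩, fun ⟨z, hz⟩ => ⟨z, Submodule.mem_top, hz⟩⟩
    have hex := fun i => kMap_exact a b (fun y z h => hreg h) (Submodule.mkQ_surjective _) hab fs i
    let K := koszulCx M fs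
    have hinj : ∀ (i : ℤ) (y : K.X i), x • y = 0 → y = 0 := fun i y h =>
      (hex i).1 ((kMap_smul x fs i y).trans (h.trans (map_zero _).symm))
    have hbd : ∀ (p q : ℤ) (y : K.X p), (koszulCx Q fs).d p q ((kMap b fs).f p y) = (kMap b fs).f q (K.d p q y) :=
      fun p q y => congrArg (fun t => t.hom y) ((kMap b fs).comm p q)
    have hbx : ∀ (p : ℤ) (y : K.X p), (kMap b fs).f p (x • y) = 0 := fun p y => by
      rw [← kMap_smul x fs p y]; exact (hex p).2.2.apply_apply_eq_zero _
    obtain ⟨H⟩ := nonempty_homotopy M fs x hxI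
    have hQM : Ideal.span {x | x ∈ fs} • (⊤ : Submodule A Q) ≠ ⊤ := fun h => hM (eq_top_iff.2 fun m _ => by
      have hm : b m ∈ (Ideal.span {x | x ∈ fs} • (⊤ : Submodule A M)).map b.hom := by
        rw [Submodule.map_smul'', Submodule.map_top, show LinearMap.range b.hom = ⊤ from LinearMap.range_eq_top.2 (Submodule.mkQ_surjective _), h]
        exact Submodule.mem_top
      obtain ⟨y, hy, hym⟩ := hm
      obtain ⟨z, hz⟩ := (hab (m - y)).1 (by rw [map_sub, sub_eq_zero]; exact hym.symm)
      have hxz : x • z ∈ Ideal.span {x | x ∈ fs} • (⊤ : Submodule A M) :=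
        Submodule.smul_mem_smul hxI Submodule.mem_top
      have : x • z = m - y := hz
      rw [this] at hxz
      simpa using add_mem hxz hy)
    have hdQ : LocCoh.idealDepth (Ideal.span {x | x ∈ fs}) Q = r := by
      have := Depth.idealDepth_quotSMulTop_add_one M hxI hreg
      rw [hd, Nat.cast_add, Nat.cast_one] at this
      exact (ENat.add_left_injective_of_ne_top ENat.one_ne_top) this
    obtain ⟨hlow, hnot⟩ := ih Q (Module.Finite.quotient A _) hQM hdQ
    have hA : ∀ q : ℤ, q + fs.length < (r + 1 : ℕ) → Ex (koszulCx M fs) q := by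
      intro q hq p s hp hs z hz
      have hxz := homotopy_apply H p q s hp hs z
      rw [hz, map_zero, zero_add] at hxz
      set w := H.hom q p z
      obtain ⟨u', hu'⟩ := hlow p (by push_cast at hq; omega) (p - 1) q (sub_add_cancel p 1) hp ((kMap b fs).f p w)
        (by rw [hbd, ← hxz, hbx])
      obtain ⟨u, rfl⟩ := (hex (p - 1)).2.1 u'
      obtain ⟨v, hv⟩ := ((hex p).2.2 (w - K.d (p - 1) p u)).1 (by rw [map_sub, ← hbd, hu', sub_self])
      rw [kMap_smul x fs] at hv
      refine ⟨v, sub_eq_zero.1 (hinj q _ ?_)⟩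
      rw [smul_sub, ← (K.d p q).hom.map_smul, hv, map_sub, ← ModuleCat.comp_apply (K.d (p - 1) p), K.d_comp_d,
        hxz, sub_eq_zero]
      exact sub_zero _
    refine ⟨hA, fun hexM => hnot fun p s hp hs w' hw' => ?_⟩
    obtain ⟨w, rfl⟩ := (hex _).2.1 w'
    rw [hbd] at hw'
    obtain ⟨z, hz⟩ := ((hex s).2.2 _).1 hw'
    rw [kMap_smul x fs] at hz
    have hdz : K.d s (s + 1) z = 0 := hinj _ _ (by
      rw [← (K.d s (s + 1)).hom.map_smul, hz, ← ModuleCat.comp_apply, K.d_comp_d]; rfl)
    obtain rfl : s = ((r + 1 : ℕ) : ℤ) - fs.length := by push_cast; omega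
    obtain ⟨v, hv⟩ := hexM ((r : ℤ) - fs.length) _ (by push_cast; omega) rfl z hdz
    have hd0 : K.d ((r : ℤ) - fs.length) (((r + 1 : ℕ) : ℤ) - fs.length) (w - x • v) = 0 := by
      rw [map_sub, map_smul, hv, hz, sub_self]
    obtain ⟨u, hu⟩ := hA _ (by push_cast; omega) p _ hp (by push_cast; omega) _ hd0
    exact ⟨(kMap b fs).f p u, by rw [hbd, hu, map_sub, hbx, sub_zero]⟩

end Groth.Agent.KoszulCx
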